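/-
Trivial-intersection subgroups that are Hall subgroups of their normalisers, in π-separable groups.
-/
import Mathlib
import Cfsg.Prelude.Def_OddOrderLocal
import Cfsg.Agent.Lib.CoprimeGen

set_option autoImplicit false

open scoped IsMulCommutative Pointwise
open Cfsg

namespace CfsgLib.TIHall

universe u

variable {G : Type u} [Group G] [Finite G]

theorem card_sup_dvd_of_le_normalizer {X Y : Subgroup G} (h : X ≤ Subgroup.normalizer (Y : Set G)) :
    Nat.card (X ⊔ Y : Subgroup G) ∣ Nat.card X * Nat.card Y := by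
  have hYn : (Y.subgroupOf (X ⊔ Y)).Normal :=
    (Subgroup.normal_subgroupOf_iff_le_normalizer le_sup_right).mpr (sup_le h Subgroup.le_normalizer)
  have h1 := Subgroup.card_mul_index (Y.subgroupOf (X ⊔ Y))
  rw [Nat.card_congr (Subgroup.subgroupOfEquivOfLe (le_sup_right : Y ≤ X ⊔ Y)).toEquiv] at h1
  rw [← h1, mul_comm (Nat.card X)]
  refine Nat.mul_dvd_mul_left _ ?_
  have h2 := Subgroup.relIndex_sup_right (X.subgroupOf (X ⊔ Y)) (Y.subgroupOf (X ⊔ Y))
  rw [← Subgroup.subgroupOf_sup le_sup_left le_sup_right, Subgroup.subgroupOf_self, Subgroup.relIndex_top_right] at h2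
  rw [h2, ← Nat.card_congr (Subgroup.subgroupOfEquivOfLe (le_sup_left : X ≤ X ⊔ Y)).toEquiv]
  exact Subgroup.index_dvd_card _

theorem relIndex_dvd_index_of_normal_right (S D : Subgroup G) [D.Normal] : S.relIndex D ∣ S.index := by
  have e1 := Subgroup.relIndex_mul_relIndex (S ⊓ D) S (S ⊔ D) inf_le_left le_sup_left
  have e2 := Subgroup.relIndex_mul_relIndex (S ⊓ D) D (S ⊔ D) inf_le_right le_sup_right
  rw [Subgroup.inf_relIndex_left] at e1
  rw [Subgroup.inf_relIndex_right, Subgroup.relIndex_sup_right, ← e1, mul_comm (D.relIndex S)] at e2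
  have h0 : D.relIndex S ≠ 0 := Subgroup.index_ne_zero_of_finite
  rw [Nat.eq_of_mul_eq_mul_right (Nat.pos_of_ne_zero h0) e2]
  exact Subgroup.relIndex_dvd_index_of_le le_sup_left

variable {H : Subgroup G}

/-- Normalisers of non-trivial subgroups of a TI subgroup lie in its normaliser. -/
theorem normalizer_le (hTI : IsTISubset (H : Set G)) {P : Subgroup G} (hPH : P ≤ H) (hP : P ≠ ⊥) :
    Subgroup.normalizer (P : Set G) ≤ Subgroup.normalizer (H : Set G) := by
  intro g hg
  by_contra hgN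
  obtain ⟨x, hx, hx1⟩ : ∃ x ∈ P, x ≠ 1 := by
    by_contra h
    push Not at h
    exact hP ((Subgroup.eq_bot_iff_forall P).mpr h)
  exact hx1 (hTI g hgN x (hPH hx) (hPH ((Subgroup.mem_normalizer_iff.mp hg x).mp hx)))

/-- Centralisers of non-identity elements lie in the normaliser. -/
theorem mem_normalizer_of_commute (hTI : IsTISubset (H : Set G)) {x g : G} (hx : x ∈ H) (hx1 : x ≠ 1)
    (h : g * x = x * g) : g ∈ Subgroup.normalizer (H : Set G) := by
  by_contra hg
  exact hx1 (hTI g hg x hx (by rw [h, mul_inv_cancel_right]; exact hx))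

variable (hTI : IsTISubset (H : Set G))
  (hHall : (Nat.card H).Coprime (H.subgroupOf (Subgroup.normalizer (H : Set G))).index)
include hTI hHall

/-- A Sylow subgroup of `H` is one of `G`. -/
theorem exists_sylow_le {p : ℕ} [Fact p.Prime] (hp : p ∣ Nat.card H) :
    ∃ S : Sylow p G, (S : Subgroup G) ≤ H := by
  obtain ⟨P⟩ : Nonempty (Sylow p H) := inferInstance
  set P' := (P : Subgroup H).map H.subtype with hP'
  have hPH : P' ≤ H := Subgroup.map_subtype_le _
  have hP0 : P' ≠ ⊥ := by
    rw [hP', Ne, Subgroup.map_eq_bot_iff_of_injective _ H.subtype_injective]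
    exact P.ne_bot_of_dvd_card hp
  obtain ⟨S, hS⟩ := (P.isPGroup'.map H.subtype).exists_le_sylow
  set N := Subgroup.normalizer (H : Set G) with hN
  have hHN : H ≤ N := Subgroup.le_normalizer
  -- `S ⊓ N` is no bigger than `P'`
  have hSN : (S : Subgroup G) ⊓ N = P' := by
    refine (Subgroup.eq_of_le_of_card_ge (le_inf hS (hPH.trans hHN)) (Nat.le_of_dvd Nat.card_pos ?_)).symm
    have h1 : Nat.card ((S : Subgroup G) ⊓ N : Subgroup G) ∣ Nat.card H * (H.subgroupOf N).index := by
      rw [← Nat.card_congr (Subgroup.subgroupOfEquivOfLe hHN).toEquiv, Subgroup.card_mul_index]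
      exact Subgroup.card_dvd_of_le inf_le_right
    obtain ⟨j, hj⟩ := IsPGroup.iff_card.mp (S.isPGroup'.to_le (inf_le_left : (S : Subgroup G) ⊓ N ≤ S))
    have hnd : ¬ p ∣ (H.subgroupOf N).index := fun h =>
      (Fact.out : p.Prime).one_lt.ne' (Nat.eq_one_of_dvd_coprimes hHall hp h)
    have h2 : Nat.card ((S : Subgroup G) ⊓ N : Subgroup G) ∣ Nat.card H :=
      Nat.Coprime.dvd_of_dvd_mul_right (by
        rw [hj]; exact ((Fact.out : p.Prime).coprime_iff_not_dvd.mpr hnd).pow_left j) h1
    rw [hj] at h2 ⊢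
    rw [Subgroup.card_map_of_injective H.subtype_injective, P.card_eq_multiplicity]
    exact Nat.pow_dvd_pow p ((Nat.Prime.pow_dvd_iff_le_factorization Fact.out Nat.card_pos.ne').mp h2)
  refine ⟨S, ?_⟩
  have hSP : P'.subgroupOf (S : Subgroup G) = ⊤ := by
    by_contra h
    have hnc := Group.normalizerCondition_of_isNilpotent (h := S.isPGroup'.isNilpotent) _ (lt_top_iff_ne_top.mpr h)
    refine hnc.not_ge fun y hy => ?_
    rw [Subgroup.mem_subgroupOf, ← hSN]
    refine ⟨y.2, normalizer_le hTI hPH hP0 ?_⟩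
    rw [Subgroup.mem_normalizer_iff]
    intro x
    have hy' := Subgroup.mem_normalizer_iff.mp hy
    constructor
    · intro hx; exact (hy' ⟨x, hS hx⟩).mp hx
    · intro hx
      have hxS : x ∈ (S : Subgroup G) := by
        have := (S : Subgroup G).mul_mem ((S : Subgroup G).mul_mem ((S : Subgroup G).inv_mem y.2) (hS hx)) y.2
        simpa [mul_assoc] using this
      exact (hy' ⟨x, hxS⟩).mpr hx
  exact (Subgroup.subgroupOf_eq_top.mp hSP).trans hPH

/-- `H` is a Hall subgroup of `G`. -/
theorem coprime_index : (Nat.card H).Coprime H.index := by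
  refine Nat.coprime_of_dvd fun p hp hpH hpi => ?_
  have := Fact.mk hp
  obtain ⟨S, hS⟩ := exists_sylow_le hTI hHall hpH
  exact S.not_dvd_index (hpi.trans (Subgroup.index_dvd_of_le hS))

omit hTI hHall in
/-- The largest normal subgroup of order prime to `|H|`. -/
theorem pPrimeRadical_spec (O : Subgroup G)
    (hO : O = sSup {K : Subgroup G | K.Normal ∧ (Nat.card K).Coprime (Nat.card H)}) :
    O.Normal ∧ (Nat.card O).Coprime (Nat.card H) ∧
      ∀ K : Subgroup G, K.Normal → (Nat.card K).Coprime (Nat.card H) → K ≤ O := by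
  obtain ⟨X, ⟨hXn, hXc⟩, hmax⟩ :=
    (Set.toFinite {K : Subgroup G | K.Normal ∧ (Nat.card K).Coprime (Nat.card H)}).exists_maximal
      ⟨⊥, inferInstance, by simp⟩
  have hle : ∀ K : Subgroup G, K.Normal → (Nat.card K).Coprime (Nat.card H) → K ≤ X := by
    intro K hKn hKc
    refine le_sup_left.trans (hmax (y := K ⊔ X) ⟨Subgroup.sup_normal K X, ?_⟩ le_sup_right)
    refine (hKc.mul_left hXc).coprime_dvd_left (card_sup_dvd_of_le_normalizer ?_)
    rw [Subgroup.normalizer_eq_top_iff.mpr hXn]; exact le_top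
  have hXO : X = O := by
    rw [hO]
    exact le_antisymm (le_sSup ⟨hXn, hXc⟩) (sSup_le fun K hK => hle K hK.1 hK.2)
  subst hXO
  exact ⟨hXn, hXc, hle⟩

variable (hsep : ∃ (n : ℕ) (M : Fin (n + 1) → Subgroup G), M 0 = ⊥ ∧ M (Fin.last n) = ⊤ ∧ Monotone M ∧ (∀ i, (M i).Normal) ∧
      ∀ i : Fin n, (∀ q : ℕ, q.Prime → q ∣ (M i.castSucc).relIndex (M i.succ) → q ∣ Nat.card H) ∨
        ((M i.castSucc).relIndex (M i.succ)).Coprime (Nat.card H))
include hsep

/-- The radical supplements the normaliser. -/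
theorem sup_normalizer_eq_top (O : Subgroup G) (hOn : O.Normal) (hOc : (Nat.card O).Coprime (Nat.card H))
    (hOmax : ∀ K : Subgroup G, K.Normal → (Nat.card K).Coprime (Nat.card H) → K ≤ O) :
    O ⊔ Subgroup.normalizer (H : Set G) = ⊤ := by
  obtain ⟨n, M, h0, hlast, hmono, hMn, hfac⟩ := hsep
  by_cases hOtop : O = ⊤
  · rw [hOtop, top_sup_eq]
  have hex : ∃ i : Fin n, M i.castSucc ≤ O ∧ ¬ M i.succ ≤ O := by
    by_contra hno
    push Not at hno
    have hall : ∀ j : Fin (n + 1), M j ≤ O := by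
      intro j
      induction j using Fin.induction with
      | zero => rw [h0]; exact bot_le
      | succ i ih => exact hno i ih
    exact hOtop (top_unique (hlast ▸ hall (Fin.last n)))
  obtain ⟨i, hi, hi'⟩ := hex
  set D := O ⊔ M i.succ with hD
  have := hMn i.succ
  have hDn : D.Normal := Subgroup.sup_normal O (M i.succ)
  -- the factor is a `π`-number
  have hπ : ∀ q : ℕ, q.Prime → q ∣ O.relIndex D → q ∣ Nat.card H := by
    have hdvd : O.relIndex D ∣ (M i.castSucc).relIndex (M i.succ) := by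
      rw [hD, sup_comm, Subgroup.relIndex_sup_right, ← Subgroup.inf_relIndex_right O]
      exact Subgroup.relIndex_dvd_of_le_left _ (le_inf hi (hmono (Fin.castSucc_le_succ i)))
    rcases hfac i with h | h
    · exact fun q hq hd => h q hq (hd.trans hdvd)
    · exfalso
      apply hi'
      refine le_sup_right.trans (hOmax D hDn ?_)
      rw [← Subgroup.card_mul_index (O.subgroupOf D),
        Nat.card_congr (Subgroup.subgroupOfEquivOfLe (le_sup_left : O ≤ D)).toEquiv]
      exact hOc.mul_left (h.coprime_dvd_left hdvd)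
  -- `D` is generated by `O` and its part in `H`
  have hDH : D ≤ O ⊔ (D ⊓ H) := by
    rw [← Subgroup.subgroupOf_eq_top]
    refine Subgroup.index_eq_one.mp ?_
    by_contra hne
    obtain ⟨q, hq, hqd⟩ := Nat.exists_prime_and_dvd hne
    have := Fact.mk hq
    have hqH : q ∣ Nat.card H := hπ q hq (hqd.trans (Subgroup.relIndex_dvd_of_le_left D (le_sup_left : O ≤ O ⊔ (D ⊓ H))))
    obtain ⟨S, hS⟩ := exists_sylow_le hTI hHall hqH
    have h1 : (S : Subgroup G).relIndex D ∣ (S : Subgroup G).index := relIndex_dvd_index_of_normal_right (S : Subgroup G) D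
    refine S.not_dvd_index ((hqd.trans ?_).trans h1)
    rw [← Subgroup.inf_relIndex_right (S : Subgroup G) D]
    exact Subgroup.relIndex_dvd_of_le_left D
      ((le_inf inf_le_right (inf_le_left.trans hS)).trans le_sup_right)
  obtain ⟨q, hq, hqd⟩ : ∃ q : ℕ, q.Prime ∧ q ∣ O.relIndex D := by
    refine Nat.exists_prime_and_dvd (fun h => ?_)
    exact hi' (le_sup_right.trans (Subgroup.relIndex_eq_one.mp h))
  have := Fact.mk hq
  obtain ⟨S, hS⟩ := exists_sylow_le hTI hHall (hπ q hq hqd)
  obtain ⟨T⟩ : Nonempty (Sylow q D) := inferInstance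
  obtain ⟨g, hg⟩ : ∃ g : G, ((T : Subgroup D).map D.subtype) ≤ MulAut.conj g • (S : Subgroup G) := by
    obtain ⟨S', hS'⟩ := (T.isPGroup'.map D.subtype).exists_le_sylow
    obtain ⟨g, rfl⟩ := MulAction.exists_smul_eq G S S'
    exact ⟨g, by rwa [Sylow.coe_subgroup_smul] at hS'⟩
  -- move the Sylow subgroup into `H`
  set T' := ((T : Subgroup D).map D.subtype).map (MulAut.conj g⁻¹).toMonoidHom with hT'
  have hT'H : T' ≤ H := by
    rintro _ ⟨x, hx, rfl⟩
    have h1 := hg hx
    rw [Subgroup.mem_pointwise_smul_iff_inv_smul_mem, MulAut.smul_def] at h1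
    apply hS
    simpa [MulAut.conj_inv_apply] using h1
  have hT'D : T' ≤ D := by
    rintro _ ⟨_, ⟨x, -, rfl⟩, rfl⟩
    exact hDn.conj_mem _ x.2 g⁻¹
  have hT'q : IsPGroup q T' := (T.isPGroup'.map _).map _
  have hqD : q ∣ Nat.card D := hqd.trans (Subgroup.index_dvd_card _)
  have hT'c : Nat.card T' = Nat.card T := by
    rw [hT', Subgroup.card_map_of_injective (MulAut.conj g⁻¹).injective, Subgroup.card_map_of_injective D.subtype_injective]
  let T₂ : Sylow q D := Sylow.ofCard (T'.subgroupOf D) (by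
    rw [Nat.card_congr (Subgroup.subgroupOfEquivOfLe hT'D).toEquiv, hT'c, T.card_eq_multiplicity])
  have hfr := Sylow.normalizer_sup_eq_top T₂
  rw [show ((T₂ : Subgroup D).map D.subtype) = T' from by
    rw [Sylow.coe_ofCard, Subgroup.map_subgroupOf_eq_of_le hT'D]] at hfr
  have hT'0 : T' ≠ ⊥ := fun h => by
    rw [h, Subgroup.card_bot, T.card_eq_multiplicity] at hT'c
    have := (Nat.Prime.dvd_iff_one_le_factorization hq Nat.card_pos.ne').mp hqD
    exact (Nat.one_lt_pow (by omega) hq.one_lt).ne hT'c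
  rw [eq_top_iff, ← hfr]
  refine sup_le ((normalizer_le hTI hT'H hT'0).trans le_sup_right) (hDH.trans (sup_le le_sup_left ?_))
  exact (inf_le_right.trans Subgroup.le_normalizer).trans le_sup_right

omit hTI hHall hsep in
/-- Then `O H` is normal. -/
theorem sup_normal (O : Subgroup G) (hOn : O.Normal) (hsup : O ⊔ Subgroup.normalizer (H : Set G) = ⊤) :
    (O ⊔ H).Normal := by
  rw [← Subgroup.normalizer_eq_top_iff, eq_top_iff, ← hsup]
  refine sup_le ((le_sup_left : O ≤ O ⊔ H).trans Subgroup.le_normalizer) fun g hg => ?_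
  have key : ∀ g ∈ Subgroup.normalizer (H : Set G), ∀ x ∈ O ⊔ H, g * x * g⁻¹ ∈ O ⊔ H := by
    intro g hg x hx
    obtain ⟨o, ho, h, hh, rfl⟩ := Subgroup.mem_sup_of_normal_left.mp hx
    rw [show g * (o * h) * g⁻¹ = (g * o * g⁻¹) * (g * h * g⁻¹) by group]
    exact Subgroup.mul_mem_sup (hOn.conj_mem o ho g) ((Subgroup.mem_normalizer_iff.mp hg h).mp hh)
  rw [Subgroup.mem_normalizer_iff]
  exact fun x => ⟨key g hg x, fun h => by simpa [mul_assoc] using key g⁻¹ (inv_mem hg) _ h⟩

omit hHall hsep in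
/-- The abelian subgroups of `H` are cyclic. -/
theorem isCyclic_of_le (O : Subgroup G) (hOn : O.Normal) (hOc : (Nat.card O).Coprime (Nat.card H))
    (hsup : O ⊔ Subgroup.normalizer (H : Set G) = ⊤) (hnn : ¬ H.Normal) (A : Subgroup G) [IsMulCommutative A]
    (hAH : A ≤ H) : IsCyclic A := by
  by_contra hA
  apply hnn
  rw [← Subgroup.normalizer_eq_top_iff, eq_top_iff, ← hsup]
  refine sup_le ?_ le_rfl
  have hAO : A ≤ Subgroup.normalizer (O : Set G) := by
    rw [Subgroup.normalizer_eq_top_iff.mpr hOn]; exact le_top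
  rw [← CfsgLib.coprime_generated_by_centralizers hA hAO
    (hOc.symm.coprime_dvd_left (Subgroup.card_dvd_of_le hAH))]
  exact iSup₂_le fun a ha x hx =>
    mem_normalizer_of_commute hTI (hAH ha.1) ha.2 (Subgroup.mem_centralizer_singleton_iff.mp hx.2)

end CfsgLib.TIHall
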