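/-
A Frobenius group from a subgroup acting on a section without fixed points.
-/
import Mathlib
import Cfsg.Agent.Lib.Coprime
import Cfsg.Agent.Lib.Frobenius.Kernel

set_option autoImplicit false

open scoped Pointwise
open Cfsg

namespace CfsgLib.TIHall

universe u

variable {G : Type u} [Group G] [Finite G]

/-- If `H` acts coprimely on a section `V/D` and the fixed points in `V` of each of its non-trivial
elements lie in `D`, then it is isomorphic to a Frobenius complement. -/
theorem exists_frobenius_of_section (H V D : Subgroup G) (hH : H ≠ ⊥) (hDV : D < V)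
    (hVD : V ≤ Subgroup.normalizer (D : Set G)) (hHD : H ≤ Subgroup.normalizer (D : Set G))
    (hHV : H ≤ Subgroup.normalizer (V : Set G)) (hcop : (Nat.card H).Coprime (Nat.card V))
    (hfix : ∀ h ∈ H, h ≠ 1 → ∀ v ∈ V, h * v = v * h → v ∈ D) :
    ∃ (F : Type u) (_ : Group F) (_ : Finite F) (C : Subgroup F),
      IsFrobeniusComplement C ∧ Nonempty (H ≃* C) := by
  set L := V ⊔ H with hL
  have hDn : (D.subgroupOf L).Normal :=
    (Subgroup.normal_subgroupOf_iff_le_normalizer (hDV.le.trans le_sup_left)).mpr (sup_le hVD hHD)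
  let π := QuotientGroup.mk' (D.subgroupOf L)
  have hdis : V ⊓ H = ⊥ :=
    disjoint_iff.mp (Subgroup.disjoint_of_coprime_natCard hcop.symm)
  set K := (V.subgroupOf L).map π with hK
  set C := (H.subgroupOf L).map π with hC
  have hVn : (V.subgroupOf L).Normal :=
    (Subgroup.normal_subgroupOf_iff_le_normalizer le_sup_left).mpr (sup_le Subgroup.le_normalizer hHV)
  have hKn : K.Normal := hVn.map _ (QuotientGroup.mk'_surjective _)
  have hker : ∀ x : L, π x = 1 ↔ (x : G) ∈ D := fun x => by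
    rw [QuotientGroup.mk'_apply, QuotientGroup.eq_one_iff]; rfl
  have hinj : Function.Injective (π.comp (Subgroup.inclusion (le_sup_right : H ≤ L))) := by
    rw [injective_iff_map_eq_one]
    intro h hh
    have h1 : (h : G) ∈ V ⊓ H := ⟨hDV.le ((hker _).mp hh), h.2⟩
    rw [hdis, Subgroup.mem_bot] at h1
    exact Subtype.ext h1
  have hCeq : C = (π.comp (Subgroup.inclusion (le_sup_right : H ≤ L))).range := by
    rw [hC, MonoidHom.range_comp, Subgroup.inclusion_range]
  have hdisKC : Disjoint K C := by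
    rw [Subgroup.disjoint_def]
    rintro _ ⟨v, hv, rfl⟩ ⟨h, hh, he⟩
    have h1 : (v : G)⁻¹ * (h : G) ∈ D := (hker (v⁻¹ * h)).mp (by rw [map_mul, map_inv, he, inv_mul_cancel])
    have h2 : (h : G) ∈ V := by simpa using V.mul_mem (show (v : G) ∈ V from hv) (hDV.le h1)
    have h3 : (h : G) = 1 := (Subgroup.eq_bot_iff_forall _).mp hdis _ ⟨h2, hh⟩
    rw [← he, show h = 1 from Subtype.ext h3, map_one]
  have hc : K.IsComplement' C := by
    refine Subgroup.isComplement'_of_disjoint_and_mul_eq_univ hdisKC ?_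
    have htop : V.subgroupOf L ⊔ H.subgroupOf L = ⊤ := by
      rw [← Subgroup.subgroupOf_sup le_sup_left le_sup_right]; exact Subgroup.subgroupOf_self _
    rw [← Subgroup.normal_mul, hK, hC, ← Subgroup.map_sup, htop,
      Subgroup.map_top_of_surjective _ (QuotientGroup.mk'_surjective _), Subgroup.coe_top]
  have hK1 : K ≠ ⊥ := by
    intro e
    refine hDV.not_ge fun v hv => (hker ⟨v, Subgroup.mem_sup_left hv⟩).mp (Subgroup.mem_bot.mp ?_)
    exact e ▸ Subgroup.mem_map_of_mem π (show (⟨v, Subgroup.mem_sup_left hv⟩ : L) ∈ V.subgroupOf L from hv)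
  have hC1 : C ≠ ⊥ := by
    intro e
    rw [hCeq, MonoidHom.range_eq_bot_iff] at e
    exact hH ((Subgroup.eq_bot_iff_forall _).mpr fun h hh =>
      congrArg Subtype.val (hinj (show _ = π.comp (Subgroup.inclusion (le_sup_right : H ≤ L)) (1 : H) by
        rw [e, MonoidHom.one_apply, MonoidHom.one_apply] : π.comp (Subgroup.inclusion (le_sup_right : H ≤ L)) ⟨h, hh⟩ = _)))
  have : Finite (L ⧸ D.subgroupOf L) := inferInstance
  refine ⟨L ⧸ D.subgroupOf L, inferInstance, inferInstance, C, CfsgLib.Frob.frob_of_fpf hc hK1 hC1 ?_,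
    ⟨(MonoidHom.ofInjective hinj).trans (MulEquiv.subgroupCongr hCeq.symm)⟩⟩
  rintro _ ⟨h, hh, rfl⟩ hne
  rw [Subgroup.eq_bot_iff_forall]
  rintro _ ⟨⟨v, hv, rfl⟩, hcm⟩
  rw [hker]
  have hh1 : (h : G) ≠ 1 := fun e => hne (by rw [show h = 1 from Subtype.ext e, map_one])
  have hcomm : Commute (π v) (π h) := Subgroup.mem_centralizer_singleton_iff.mp hcm
  have hhV : Subgroup.zpowers (h : G) ≤ Subgroup.normalizer (V : Set G) :=
    Subgroup.zpowers_le.mpr (hHV hh)
  obtain ⟨c, ⟨hcV, hcc⟩, hck⟩ := CfsgLib.coprime_fixed_quotient hhV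
    (hcop.coprime_dvd_left (Subgroup.card_dvd_of_le (Subgroup.zpowers_le.mpr hh)))
    (Or.inl inferInstance) hDV.le hVD (Subgroup.zpowers_le.mpr (hHD hh)) (show (v : G) ∈ V from hv) (by
      rintro _ ⟨k, rfl⟩
      have h2 : π (h ^ k * v * (h ^ k)⁻¹ * v⁻¹) = 1 := by
        rw [map_mul, map_mul, map_mul, map_inv, map_inv, map_zpow, ((hcomm.zpow_right k).symm).eq]
        group
      simpa using (hker _).mp h2)
  have hcD : c ∈ D := hfix _ hh hh1 c hcV (hcc _ (Subgroup.mem_zpowers _))
  simpa using D.mul_mem hcD (D.inv_mem hck)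

end CfsgLib.TIHall
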