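/-
The fixed points of a complement of a TI Hall subgroup with cyclic Sylow subgroups.
-/
import Mathlib
import Cfsg.Agent.Lib.TIHall.Basic
import Cfsg.Agent.Lib.Coprime
import Cfsg.Agent.Lib.CoprimeAbelian
import Cfsg.Agent.Lib.UniqueSubgroup

set_option autoImplicit false

open scoped IsMulCommutative Pointwise commutatorElement
open Cfsg

namespace CfsgLib.TIHall

universe u

variable {G : Type u} [Group G] [Finite G]

theorem le_normalizer_of_conj_mem {A B : Subgroup G} (h : ∀ a ∈ A, ∀ x ∈ B, a * x * a⁻¹ ∈ B) :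
    A ≤ Subgroup.normalizer (B : Set G) := by
  intro a ha
  rw [Subgroup.mem_normalizer_iff]
  exact fun x => ⟨h a ha x, fun hx => by simpa [mul_assoc] using h a⁻¹ (inv_mem ha) _ hx⟩

theorem le_normalizer_sup {A B₁ B₂ : Subgroup G} (h₁ : ∀ a ∈ A, ∀ x ∈ B₁, a * x * a⁻¹ ∈ B₁ ⊔ B₂)
    (h₂ : ∀ a ∈ A, ∀ x ∈ B₂, a * x * a⁻¹ ∈ B₁ ⊔ B₂) :
    A ≤ Subgroup.normalizer ((B₁ ⊔ B₂ : Subgroup G) : Set G) :=
  le_normalizer_of_conj_mem fun a ha x hx =>
    (sup_le (fun y hy => h₁ a ha y hy) (fun y hy => h₂ a ha y hy) :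
      B₁ ⊔ B₂ ≤ (B₁ ⊔ B₂).comap (MulAut.conj a).toMonoidHom) hx

/-- A group all whose abelian subgroups are cyclic and whose Sylow 2-subgroups are abelian is a Z-group. -/
theorem isZGroup_of_abelian_cyclic {K : Type u} [Group K] [Finite K]
    (hab : ∀ A : Subgroup K, IsMulCommutative A → IsCyclic A)
    (h2 : ∀ P : Sylow 2 K, IsMulCommutative (P : Subgroup K)) : IsZGroup K := by
  refine ⟨fun p hp P => ?_⟩
  have := Fact.mk hp
  by_cases hp2 : p = 2
  · subst hp2; exact hab _ (h2 P)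
  rcases subsingleton_or_nontrivial (P : Subgroup K) with h | h
  · infer_instance
  have hPp := P.isPGroup'
  have hzc : Nontrivial (Subgroup.center (P : Subgroup K)) := hPp.center_nontrivial
  obtain ⟨z, hz⟩ := exists_prime_orderOf_dvd_card' (G := Subgroup.center (P : Subgroup K)) p (by
    obtain ⟨k, hk, hk'⟩ := ((hPp.to_subgroup (Subgroup.center (P : Subgroup K))).nontrivial_iff_card).mp hzc
    exact hk' ▸ dvd_pow_self p (by omega))
  rw [← Subgroup.orderOf_coe] at hz
  refine (CfsgLib.UniqueSubgroup.cyclic_or_quaternion hPp hz fun x hx => ?_).resolve_right fun h => hp2 h.1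
  set A : Subgroup (P : Subgroup K) := Subgroup.zpowers x ⊔ Subgroup.zpowers (z : (P : Subgroup K)) with hA
  have hxz : Commute x (z : (P : Subgroup K)) := Subgroup.mem_center_iff.mp z.2 x
  have hAc : IsMulCommutative A := by
    rw [← Subgroup.le_centralizer_iff_isMulCommutative]
    have hAx : A ≤ Subgroup.centralizer {x} :=
      sup_le (Subgroup.zpowers_le.mpr (Subgroup.mem_centralizer_singleton_iff.mpr rfl))
        (Subgroup.zpowers_le.mpr (Subgroup.mem_centralizer_singleton_iff.mpr hxz.symm.eq))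
    refine sup_le (Subgroup.zpowers_le.mpr fun y hy => ?_) (Subgroup.zpowers_le.mpr fun y _ => ?_)
    · exact Subgroup.mem_centralizer_singleton_iff.mp (hAx hy)
    · exact Subgroup.mem_center_iff.mp z.2 y
  have hmc : IsMulCommutative (A.map (P : Subgroup K).subtype) := by infer_instance
  have := hab _ hmc
  have hAcy : IsCyclic A :=
    isCyclic_of_surjective _ (Subgroup.equivMapOfInjective A _ (P : Subgroup K).subtype_injective).symm.surjective
  have hzA : (z : (P : Subgroup K)) ∈ A := Subgroup.mem_sup_right (Subgroup.mem_zpowers _)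
  have hxA : x ∈ A := Subgroup.mem_sup_left (Subgroup.mem_zpowers x)
  have hcard : Nat.card {a : A // a ^ p = 1} ≤ p := by
    classical
    have := Fintype.ofFinite A
    rw [Nat.card_eq_fintype_card, Fintype.card_subtype]
    exact IsCyclic.card_pow_eq_one_le hp.pos
  have hzp : (z : (P : Subgroup K)) ^ p = 1 := by
    have := pow_orderOf_eq_one (z : (P : Subgroup K))
    simp only [hz] at this
    exact this
  let f : Subgroup.zpowers (z : (P : Subgroup K)) → {a : A // a ^ p = 1} := fun y =>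
    ⟨⟨y, (Subgroup.zpowers_le.mpr hzA) y.2⟩, Subtype.ext (by
      obtain ⟨k, hk⟩ := y.2
      show ((y : (P : Subgroup K))) ^ p = 1
      rw [← hk]
      show ((z : (P : Subgroup K)) ^ k) ^ p = 1
      rw [← zpow_natCast, ← zpow_mul, mul_comm, zpow_mul, zpow_natCast, hzp, one_zpow])⟩
  have hf : Function.Bijective f := by
    refine Function.Injective.bijective_of_nat_card_le (fun a b hab => ?_) (hcard.trans ?_)
    · exact Subtype.ext (congrArg (fun t => ((t.1 : A) : (P : Subgroup K))) hab)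
    · rw [Nat.card_zpowers, hz]
  obtain ⟨y, hy⟩ := hf.2 ⟨⟨x, hxA⟩, Subtype.ext hx⟩
  have : (y : (P : Subgroup K)) = x := congrArg (fun t => ((t.1 : A) : (P : Subgroup K))) hy
  exact this ▸ y.2

variable {H Q : Subgroup G}

/-- A `Q`-invariant cyclic `p`-subgroup with a non-trivial fixed point is centralised. -/
theorem le_centralizer_of_fixed {p : ℕ} [Fact p.Prime] {P : Subgroup G} [IsCyclic P] (hP : IsPGroup p P)
    (hQP : Q ≤ Subgroup.normalizer (P : Set G)) (hcop : (Nat.card Q).Coprime (Nat.card P))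
    {x : G} (hxP : x ∈ P) (hxQ : x ∈ Subgroup.centralizer (Q : Set G)) (hx1 : x ≠ 1) :
    P ≤ Subgroup.centralizer (Q : Set G) := by
  rcases hP.commutator_eq_bot_or_commutator_eq_self hQP hcop.symm with h | h
  · exact Subgroup.le_centralizer_iff.mp (Subgroup.commutator_eq_bot_iff_le_centralizer.mp h)
  · exfalso
    apply hx1
    have h1 := CfsgLib.coprime_abelian_disjoint Q P hQP hcop
    have : x ∈ (P ⊓ Subgroup.centralizer (Q : Set G)) ⊓ ⁅P, Q⁆ := ⟨⟨hxP, hxQ⟩, by
      rw [Subgroup.commutator_comm, h]; exact hxP⟩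
    rwa [h1, Subgroup.mem_bot] at this

variable [IsZGroup H]
variable (hQH : Q ≤ Subgroup.normalizer (H : Set G)) (hcop : (Nat.card Q).Coprime (Nat.card H))
include hQH hcop

/-- A prime dividing `|C_H(Q)|` gives a `Q`-fixed Sylow subgroup. -/
theorem exists_fixed_sylow {p : ℕ} [Fact p.Prime] {x : G} (hxH : x ∈ H) (hxQ : x ∈ Subgroup.centralizer (Q : Set G))
    (hx : orderOf x = p) :
    ∃ P : Sylow p H, x ∈ (P : Subgroup H).map H.subtype ∧
      (P : Subgroup H).map H.subtype ≤ Subgroup.centralizer (Q : Set G) := by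
  have hU : IsPGroup p (Subgroup.zpowers x) := IsPGroup.of_card (n := 1) (by rw [Nat.card_zpowers, hx, pow_one])
  obtain ⟨P, hUP, hQP⟩ := CfsgLib.coprime_le_invariant_sylow hQH hcop (Or.inr inferInstance)
    (Subgroup.zpowers_le.mpr hxH) hU (le_normalizer_of_conj_mem fun q hq y hy => by
      have : y ∈ Subgroup.centralizer (Q : Set G) := (Subgroup.zpowers_le.mpr hxQ) hy
      rwa [this q hq, mul_inv_cancel_right])
  have : IsCyclic ((P : Subgroup H).map H.subtype) :=
    isCyclic_of_surjective _ (Subgroup.equivMapOfInjective (P : Subgroup H) _ H.subtype_injective).surjective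
  exact ⟨P, hUP (Subgroup.mem_zpowers x), le_centralizer_of_fixed (P.isPGroup'.map _) hQP
    (hcop.coprime_dvd_right (Subgroup.card_dvd_of_le (Subgroup.map_subtype_le _))) (hUP (Subgroup.mem_zpowers x)) hxQ
    (fun h => by rw [h, orderOf_one] at hx; exact (Fact.out : p.Prime).one_lt.ne hx)⟩

/-- `C_H(Q)` meets `[H, Q]` trivially. -/
theorem fixed_inf_commutator :
    (H ⊓ Subgroup.centralizer (Q : Set G)) ⊓ ⁅H, Q⁆ = ⊥ := by
  by_contra hne
  set M := ⁅H, Q⁆ with hMdef
  have hMH : M ≤ H := CfsgLib.commutator_le_of_le_normalizer hQH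
  have hQM : Q ≤ Subgroup.normalizer (M : Set G) := CfsgLib.right_le_normalizer_commutator Q H
  have hMM : ⁅M, Q⁆ = M := CfsgLib.coprime_commutator_commutator hQH hcop (Or.inr inferInstance)
  have hcM : (Nat.card Q).Coprime (Nat.card M) := hcop.coprime_dvd_right (Subgroup.card_dvd_of_le hMH)
  have : IsZGroup M := IsZGroup.of_injective (f := Subgroup.inclusion hMH) (Subgroup.inclusion_injective _)
  obtain ⟨p, hp, hpd⟩ := Nat.exists_prime_and_dvd (fun h => hne (Subgroup.card_eq_one.mp h))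
  have := Fact.mk hp
  obtain ⟨⟨x, hxC, hxM⟩, hx⟩ := exists_prime_orderOf_dvd_card' p hpd
  rw [← Subgroup.orderOf_coe] at hx
  change orderOf x = p at hx
  obtain ⟨P, hxP, hPQ⟩ := exists_fixed_sylow hQM hcM hxM hxC.2 hx
  -- `N_M(P)` centralises `P`
  have hN : Subgroup.normalizer ((P : Subgroup M) : Set M) ≤ Subgroup.centralizer ((P : Subgroup M) : Set M) := by
    rcases Sylow.normalizer_le_centralizer_or_le_commutator P with h | h
    · exact h
    have := IsZGroup.isCyclic_commutator M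
    have hconj : ∀ m : M, ∃ k : ℤ, ∀ y ∈ commutator M, m * y * m⁻¹ = y ^ k := by
      intro m
      obtain ⟨k, hk⟩ := MonoidHom.map_cyclic ((commutator M).normalizerMonoidHom ⟨m, by
        rw [Subgroup.normalizer_eq_top]; trivial⟩).toMonoidHom
      exact ⟨k, fun y hy => congrArg Subtype.val (hk ⟨y, hy⟩)⟩
    refine le_trans le_top fun m _ => ?_
    suffices hfix : M ≤ Subgroup.centralizer (((P : Subgroup M).map M.subtype : Subgroup G) : Set G) by
      intro y hy
      exact Subtype.ext (hfix m.2 (y : G) ⟨y, hy, rfl⟩)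
    conv_lhs => rw [← hMM]
    rw [Subgroup.commutator_le]
    intro a ha q hq
    obtain ⟨k, hk⟩ := hconj ⟨a, ha⟩
    rintro _ ⟨y, hy, rfl⟩
    -- `a` acts on `P` as a power map and `q` trivially
    have hpow : ∀ z ∈ (P : Subgroup M), a * (z : G) * a⁻¹ = (z : G) ^ k := fun z hz => by
      have := congrArg Subtype.val (hk z (h hz))
      simpa using this
    have hq' : ∀ z ∈ (P : Subgroup M), q * (z : G) * q⁻¹ = z := fun z hz => by
      rw [show q * (z : G) = (z : G) * q from hPQ ⟨z, hz, rfl⟩ q hq]; exact mul_inv_cancel_right _ _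
    have e1 : a * q * a⁻¹ * (y : G) = (y : G) * (a * q * a⁻¹) := by
      -- `y = a z a⁻¹` for some `z ∈ P`
      obtain ⟨l, hl⟩ := hconj (⟨a, ha⟩ : M)⁻¹
      have hz : ((y : M) ^ l : M) ∈ (P : Subgroup M) := Subgroup.zpow_mem _ hy l
      have h3 : a⁻¹ * (y : G) * a = ((y ^ l : M) : G) := by
        have := congrArg Subtype.val (hl y (h hy))
        simpa using this
      have h4 := hq' _ hz
      calc a * q * a⁻¹ * (y : G) = a * (q * (a⁻¹ * (y : G) * a) * q⁻¹) * q * a⁻¹ := by group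
        _ = a * (a⁻¹ * (y : G) * a) * q * a⁻¹ := by rw [h3, h4]
        _ = (y : G) * (a * q * a⁻¹) := by group
    show (y : G) * ⁅a, q⁆ = ⁅a, q⁆ * (y : G)
    rw [commutatorElement_def]
    calc (y : G) * (a * q * a⁻¹ * q⁻¹) = ((y : G) * (a * q * a⁻¹)) * q⁻¹ := by group
      _ = a * q * a⁻¹ * ((y : G) * q⁻¹) := by rw [← e1]; group
      _ = a * q * a⁻¹ * q⁻¹ * (y : G) := by
        rw [← show q⁻¹ * (y : G) = (y : G) * q⁻¹ from hPQ ⟨y, hy, rfl⟩ q⁻¹ (inv_mem hq)]; group
  obtain ⟨f, hcompl⟩ : ∃ f : M →* (P : Subgroup M), f.ker.IsComplement' (P : Subgroup M) :=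
    ⟨MonoidHom.transferSylow P hN, MonoidHom.ker_transferSylow_isComplement' P hN⟩
  -- the kernel is the set of elements of order prime to `p`
  have hker : ∀ m : M, m ∈ f.ker ↔ ¬ p ∣ orderOf m := by
    intro m
    constructor
    · intro hm hd
      have h1 : p ∣ Nat.card f.ker := hd.trans (Subgroup.orderOf_dvd_natCard _ hm)
      rw [← hcompl.index_eq_card] at h1
      exact P.not_dvd_index h1
    · intro hm
      rw [MonoidHom.mem_ker, ← orderOf_eq_one_iff]
      obtain ⟨j, hj⟩ := IsPGroup.iff_orderOf.mp P.isPGroup' (f m)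
      rcases j with _ | j
      · simpa using hj
      · exact absurd ((dvd_pow_self p j.succ_ne_zero).trans (hj ▸ orderOf_map_dvd f m)) hm
  have hML : M ≤ f.ker.map M.subtype := by
    conv_lhs => rw [← hMM]
    rw [Subgroup.commutator_le]
    intro a ha q hq
    have hmem : (⟨a, ha⟩ : M) ∈ f.ker ⊔ (P : Subgroup M) := by rw [hcompl.sup_eq_top]; trivial
    obtain ⟨l, hl, y, hy, hly⟩ := Subgroup.mem_sup_of_normal_left.mp hmem
    have hal : a = (l : G) * (y : G) := congrArg Subtype.val hly.symm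
    have hlq : q * ((l⁻¹ : M) : G) * q⁻¹ ∈ M :=
      (Subgroup.mem_normalizer_iff.mp (hQM hq) _).mp (l⁻¹).2
    obtain ⟨l', hl'v⟩ : ∃ l' : M, (l' : G) = q * ((l⁻¹ : M) : G) * q⁻¹ := ⟨⟨_, hlq⟩, rfl⟩
    have hl' : l' ∈ f.ker := by
      rw [hker, ← Subgroup.orderOf_coe, hl'v]
      show ¬ p ∣ orderOf (MulAut.conj q ((l⁻¹ : M) : G))
      rw [MulEquiv.orderOf_eq, Subgroup.orderOf_coe]
      exact (hker _).mp (inv_mem hl)
    refine ⟨l * l', f.ker.mul_mem hl hl', ?_⟩
    rw [Subgroup.subtype_apply, Subgroup.coe_mul, hl'v, Subgroup.coe_inv]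
    have hqy : q * (y : G)⁻¹ = (y : G)⁻¹ * q := (hPQ ⟨y⁻¹, inv_mem hy, by simp⟩ q hq)
    rw [commutatorElement_def, hal]
    calc (l : G) * (q * (l : G)⁻¹ * q⁻¹) = (l : G) * (y : G) * ((y : G)⁻¹ * q) * (l : G)⁻¹ * q⁻¹ := by group
      _ = (l : G) * (y : G) * (q * (y : G)⁻¹) * (l : G)⁻¹ * q⁻¹ := by rw [hqy]
      _ = _ := by group
  obtain ⟨m, hm, hmx⟩ := hML hxM
  exact (hker m).mp hm (by rw [← Subgroup.orderOf_coe, show (m : G) = x from hmx, hx])

end CfsgLib.TIHall
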