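/-
Coprime action on a group with cyclic Sylow subgroups.
-/
import Mathlib
import Cfsg.Agent.Lib.TIHall.FixedPoints

set_option autoImplicit false

open scoped IsMulCommutative Pointwise commutatorElement
open Cfsg

namespace CfsgLib.TIHall

universe u

variable {G : Type u} [Group G] [Finite G] {H Q : Subgroup G} [IsZGroup H]
variable (hQH : Q ≤ Subgroup.normalizer (H : Set G)) (hcop : (Nat.card Q).Coprime (Nat.card H))
include hQH hcop

/-- The fixed points form a Hall subgroup. -/
theorem fixed_coprime_relIndex :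
    (Nat.card ↥(H ⊓ Subgroup.centralizer (Q : Set G))).Coprime
      ((H ⊓ Subgroup.centralizer (Q : Set G)).relIndex H) := by
  refine Nat.coprime_of_dvd fun p hp hpC hpi => ?_
  have := Fact.mk hp
  obtain ⟨⟨x, hxH, hxQ⟩, hx⟩ := exists_prime_orderOf_dvd_card' p hpC
  rw [← Subgroup.orderOf_coe] at hx
  obtain ⟨P, -, hP⟩ := exists_fixed_sylow hQH hcop hxH hxQ hx
  refine P.not_dvd_index (hpi.trans (Subgroup.index_dvd_of_le ?_))
  exact fun y hy => ⟨y.2, hP ⟨y, hy, rfl⟩⟩

/-- The commutator is cyclic. -/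
theorem isCyclic_commutator_action : IsCyclic (⁅H, Q⁆ : Subgroup G) := by
  set M := ⁅H, Q⁆ with hMdef
  have hMH : M ≤ H := CfsgLib.commutator_le_of_le_normalizer hQH
  have hQM : Q ≤ Subgroup.normalizer (M : Set G) := CfsgLib.right_le_normalizer_commutator Q H
  have hMM : ⁅M, Q⁆ = M := CfsgLib.coprime_commutator_commutator hQH hcop (Or.inr inferInstance)
  have : IsZGroup M := IsZGroup.of_injective (f := Subgroup.inclusion hMH) (Subgroup.inclusion_injective _)
  set K := ⁅M, M⁆ with hK
  have hKc : IsCyclic K := by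
    have := IsZGroup.isCyclic_commutator M
    have h1 : K = (commutator M).map M.subtype := (Subgroup.map_subtype_commutator M).symm
    rw [h1]
    exact isCyclic_of_surjective _ (Subgroup.equivMapOfInjective _ _ M.subtype_injective).surjective
  have hMK : M ≤ Subgroup.normalizer (K : Set G) := CfsgLib.right_le_normalizer_commutator M M
  have hQK : Q ≤ Subgroup.normalizer (K : Set G) := by
    refine le_normalizer_of_conj_mem fun q hq x hx => ?_
    have hle : K ≤ K.comap (MulAut.conj q).toMonoidHom := by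
      rw [hK, Subgroup.commutator_le]
      intro a ha b hb
      rw [Subgroup.mem_comap, MulEquiv.coe_toMonoidHom, map_commutatorElement]
      exact Subgroup.commutator_mem_commutator ((Subgroup.mem_normalizer_iff.mp (hQM hq) a).mp ha)
        ((Subgroup.mem_normalizer_iff.mp (hQM hq) b).mp hb)
    exact hle hx
  have hpow : ∀ g ∈ Subgroup.normalizer (K : Set G), ∃ k : ℤ, ∀ y ∈ K, g * y * g⁻¹ = y ^ k := by
    intro g hg
    obtain ⟨k, hk⟩ := MonoidHom.map_cyclic (K.normalizerMonoidHom ⟨g, hg⟩).toMonoidHom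
    exact ⟨k, fun y hy => congrArg Subtype.val (hk ⟨y, hy⟩)⟩
  have hcommc : ∀ g ∈ Subgroup.normalizer (K : Set G), ∀ h ∈ Subgroup.normalizer (K : Set G), ∀ y ∈ K,
      g * (h * y * h⁻¹) * g⁻¹ = h * (g * y * g⁻¹) * h⁻¹ := by
    intro g hg h hh y hy
    obtain ⟨k, hk⟩ := hpow g hg
    obtain ⟨l, hl⟩ := hpow h hh
    rw [hk _ ((Subgroup.mem_normalizer_iff.mp hh y).mp hy), hl _ hy, hk _ hy,
      hl _ (K.zpow_mem hy k), ← zpow_mul, ← zpow_mul, mul_comm]
  have hcent : M ≤ Subgroup.centralizer (K : Set G) := by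
    conv_lhs => rw [← hMM]
    rw [Subgroup.commutator_le]
    intro m hm q hq y hy
    have hz : q⁻¹ * y * q ∈ K := by
      simpa using (Subgroup.mem_normalizer_iff.mp (hQK (inv_mem hq)) y).mp hy
    have hz' : m⁻¹ * (q⁻¹ * y * q) * m ∈ K := by
      simpa using (Subgroup.mem_normalizer_iff.mp (hMK (inv_mem hm)) _).mp hz
    have e : ⁅m, q⁆ * y * ⁅m, q⁆⁻¹ = y := by
      calc ⁅m, q⁆ * y * ⁅m, q⁆⁻¹ = m * (q * (m⁻¹ * (q⁻¹ * y * q) * m) * q⁻¹) * m⁻¹ := by
            rw [commutatorElement_def]; group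
        _ = q * (m * (m⁻¹ * (q⁻¹ * y * q) * m) * m⁻¹) * q⁻¹ := hcommc m (hMK hm) q (hQK hq) _ hz'
        _ = y := by group
    exact (mul_inv_eq_iff_eq_mul.mp e).symm
  have hle : commutator M ≤ Subgroup.center M := by
    intro x hx
    rw [Subgroup.mem_center_iff]
    intro m
    have h1 : (x : G) ∈ K := by
      rw [hK, ← Subgroup.map_subtype_commutator]; exact ⟨x, hx, rfl⟩
    exact Subtype.ext (hcent m.2 (x : G) h1).symm
  have : IsCyclic (Abelianization M) := IsZGroup.isCyclic_abelianization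
  rw [← Abelianization.ker_of M] at hle
  let _ := commGroupOfCyclicCenterQuotient Abelianization.of hle
  infer_instance

end CfsgLib.TIHall
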